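import Cfsg.Agent.H805.PU.Main

/-!
# Twisting a system over a whole group, with the automizers of the invariant subgroups (S5210)
-/

set_option autoImplicit false

namespace Cfsg.Agent.H771.P4

open Cfsg Cfsg.FusionSystem Cfsg.Agent.H759 Cfsg.Agent.H756.PU Cfsg.Agent.H805.PU

universe u

variable {G0 : Type u} [Group G0]

theorem push_symm {θ : MulAut G0} {F F' : FusionSystem (⊤ : Subgroup G0)} {hθ : Function.Injective θ.toMonoidHom}
    {hθ' : Function.Injective (θ⁻¹ : MulAut G0).toMonoidHom} (h : IsPush hθ F F') : IsPush hθ' F' F := by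
  refine ⟨(Subgroup.map_top_of_surjective _ (θ⁻¹ : MulAut G0).surjective).symm, fun P φ => ?_⟩
  have hr : (θ.toMonoidHom : G0 →* G0).range = ⊤ := MonoidHom.range_eq_top.2 θ.surjective
  obtain ⟨P0, rfl⟩ := exists_eq_map (f := (θ.toMonoidHom : G0 →* G0)) (P' := P) (by rw [hr]; exact le_top)
  obtain ⟨φ0, rfl⟩ := exists_eq_cb hθ φ (fun y => by rw [hr]; exact Subgroup.mem_top _)
  rw [h.hom]
  have hP : (P0.map θ.toMonoidHom).map (θ⁻¹ : MulAut G0).toMonoidHom = P0 := by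
    rw [Subgroup.map_map]
    have : (θ⁻¹ : MulAut G0).toMonoidHom.comp θ.toMonoidHom = MonoidHom.id _ := by
      ext x
      show θ⁻¹ (θ x) = x
      exact MulAut.inv_apply_self _ _ _
    rw [this, Subgroup.map_id]
  have key : ∀ (P1 : Subgroup G0) (hP1 : P1 = P0) (φ1 : P1 →* G0), (∀ (x : G0) (h0 : x ∈ P0) (h1 : x ∈ P1),
      φ1 ⟨x, h1⟩ = φ0 ⟨x, h0⟩) → (φ1 ∈ F.Hom P1 ↔ φ0 ∈ F.Hom P0) := by
    intro P1 hP1 φ1 h1
    subst hP1
    have : φ1 = φ0 := MonoidHom.ext fun x => h1 x x.2 x.2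
    rw [this]
  apply key _ hP
  intro x h0 h1
  have h2 : (θ⁻¹ : MulAut G0).toMonoidHom (θ x) = x := MulAut.inv_apply_self _ _ _
  have h3 : θ x ∈ P0.map θ.toMonoidHom := ⟨x, h0, rfl⟩
  have h4 := cb_apply hθ' (cb hθ φ0) ⟨θ x, h3⟩ ⟨θ x, h3, rfl⟩
  have h5 := cb_apply hθ φ0 ⟨x, h0⟩ h3
  have h6 : (⟨x, h1⟩ : ↥((P0.map θ.toMonoidHom).map (θ⁻¹ : MulAut G0).toMonoidHom)) =
      ⟨(θ⁻¹ : MulAut G0).toMonoidHom (θ x), ⟨θ x, h3, rfl⟩⟩ := Subtype.ext h2.symm
  rw [h6]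
  refine h4.trans ?_
  have h7 : cb hθ φ0 ⟨θ x, h3⟩ = θ (φ0 ⟨x, h0⟩) := h5
  rw [h7]
  exact MulAut.inv_apply_self _ _ _

/-- the automizer of an invariant subgroup under a push forward -/
theorem autGroup_push {θ : MulAut G0} {F F' : FusionSystem (⊤ : Subgroup G0)} {hθ : Function.Injective θ.toMonoidHom}
    (h : IsPush hθ F F') {Q : Subgroup G0} (hQ : Q.map θ.toMonoidHom = Q) {t : MulAut Q}
    (ht : ∀ e : Q, ((t e : Q) : G0) = θ e) : F'.autGroup Q = (F.autGroup Q).map (MulAut.conj t).toMonoidHom := by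
  have key : ∀ (Q1 : Subgroup G0) (hQ1 : Q1 = Q) (α : MulAut Q1) (β : MulAut Q),
      (∀ x : Q1, ∀ y : Q, (x : G0) = y → ((α x : Q1) : G0) = β y) → (α ∈ F'.autGroup Q1 ↔ β ∈ F'.autGroup Q) := by
    intro Q1 hQ1 α β h1
    subst hQ1
    have : α = β := MulEquiv.ext fun x => Subtype.ext (h1 x x rfl)
    rw [this]
  have main : ∀ α : MulAut Q, MulAut.conj t α ∈ F'.autGroup Q ↔ α ∈ F.autGroup Q := by
    intro α
    rw [← h.mem_autGroup_iff]
    symm
    apply key _ hQ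
    intro x y hxy
    obtain ⟨z, rfl⟩ := (eqv hθ Q).surjective x
    rw [coe_ca_apply]
    have hy : y = t z := Subtype.ext (by rw [ht]; exact hxy.symm)
    rw [hy]
    show θ (α z : Q) = (((t * α * t⁻¹) (t z) : Q) : G0)
    rw [MulAut.mul_apply, MulAut.mul_apply, MulAut.inv_apply_self, ht]
  ext γ
  constructor
  · intro hγ
    refine ⟨MulAut.conj t⁻¹ γ, ?_, ?_⟩
    · apply (main _).1
      have : MulAut.conj t (MulAut.conj t⁻¹ γ) = γ := by simp [MulAut.conj_apply, mul_assoc]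
      rwa [this]
    · show MulAut.conj t (MulAut.conj t⁻¹ γ) = γ
      simp [MulAut.conj_apply, mul_assoc]
  · rintro ⟨α, hα, rfl⟩
    exact (main α).2 hα

/-- **the strong form of (G12)** -/
theorem exists_twist [Finite G0] {p : ℕ} [Fact p.Prime] (F : FusionSystem (⊤ : Subgroup G0)) (θ : MulAut G0)
    (hF : F.IsSaturated p) :
    ∃ F' : FusionSystem (⊤ : Subgroup G0), F'.IsSaturated p ∧ (F'.IsRealizable p ↔ F.IsRealizable p) ∧
      AF F' = (AF F).map (MulAut.conj θ).toMonoidHom ∧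
      (∀ E : Subgroup G0, F.IsEssential p E ↔ F'.IsEssential p (E.map θ.toMonoidHom)) ∧
      ∀ (Q : Subgroup G0) (t : MulAut Q), Q.map θ.toMonoidHom = Q → (∀ e : Q, ((t e : Q) : G0) = θ e) →
        F'.autGroup Q = (F.autGroup Q).map (MulAut.conj t).toMonoidHom := by
  have hinj : Function.Injective (θ.toMonoidHom : G0 →* G0) := θ.injective
  have hinj' : Function.Injective (θ⁻¹ : MulAut G0).toMonoidHom := (θ⁻¹ : MulAut G0).injective
  obtain ⟨F', hF'⟩ := exists_push' (hf := hinj) (T₁ := (⊤ : Subgroup G0)) (T₂ := (⊤ : Subgroup G0))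
    (Subgroup.map_top_of_surjective _ θ.surjective).symm F
  refine ⟨F', hF'.isSaturated_iff.2 hF, ⟨H776.Co.isRealizable_push (push_symm (hθ' := hinj') hF'),
    H776.Co.isRealizable_push hF'⟩, AF_push hF', fun E => (isEssential_iff hF').symm, fun Q t hQ ht => autGroup_push hF' hQ ht⟩

end Cfsg.Agent.H771.P4
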