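import Cfsg.Agent.H771.P4.Twist
import Cfsg.Agent.H756.PU.Asm
import Cfsg.Agent.H776.P4.Stmts

/-!
# S5210: the assembly (common part and `q > 3`)

`Common` : the statements which are used for every `q`. `reduce` : it suffices to treat a saturated system on `PG K` (`q > 2`) for which `V`, `Q` are
essential and `Aut_F(S) = Inn(S) D`, `D ≤ TP K`. `real_of_gt` : `q > 3`.
-/

set_option autoImplicit false

namespace Cfsg.Agent.H771.P4

open Cfsg Cfsg.FusionSystem Cfsg.Agent.H802 Cfsg.Agent.H776.P4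
open Cfsg.Agent.H756.PU (HypK Ess Inv Com NormAut TIAut AF StEss StOver StCon StSame StCompl StTrans)
open Cfsg.Agent.H756.PU (mem_AF_iff autGroup_top_eq_of_AF res_mem fullyNorm_of_normal syl_of_normal ext_mem mem_range_sup
  map_conj_range top_le_normalizer_of_char inv_top_of_char not_norm_of_ess)

universe u v

/-- the pieces used for every `q` -/
structure Common : Prop where
  ess : StEss.{u}
  ovr : StOver.{u}
  con : StCon.{u}
  same : StSame.{u}
  compl : StCompl.{u}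
  grp : StGrp.{u}
  e1 : StE1.{u}
  e2 : StE2.{u}
  e3 : StE3.{u}
  e4 : StE4.{u}
  ti : StTI.{u}
  noOver : StNoOver.{u}
  par : StPar.{u}
  pos : StPos.{u}
  v : StV.{u}
  real : StReal.{u}

section

variable {K : Type u} [Field K] [StarRing K] {p n : ℕ}

theorem finite_PG (H : Common.{u}) (hK : HypK K p n) : Finite (PG K) := by
  apply Nat.finite_of_card_ne_zero
  rw [(H.grp hK).1]
  exact pow_ne_zero _ (pow_ne_zero _ hK.pp.ne_zero)

theorem char_of (H : Common.{u}) (hK : HypK K p n) {Q : Subgroup (PG K)} (hQ : Q = PV K ∨ Q = PQ K) :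
    centralizerIn ⊤ Q ≤ Q ∧ Q ≠ ⊤ ∧ (∀ α : MulAut (PG K), Q.map α.toMonoidHom = Q) := (H.ti hK).2 Q hQ

theorem norm_of (H : Common.{u}) (hK : HypK K p n) {Q : Subgroup (PG K)} (hQ : Q = PV K ∨ Q = PQ K) :
    (⊤ : Subgroup (PG K)) ≤ Subgroup.normalizer (Q : Set (PG K)) :=
  top_le_normalizer_of_char (char_of H hK hQ).2.2

/-- `Aut_S(Q)` is TI -/
theorem tiQ (H : Common.{u}) (hK : HypK K p n) {F : FusionSystem (⊤ : Subgroup (PG K))} (hF : F.IsSaturated p) :
    TIAut (⊤ : Subgroup (PG K)) (F.autGroup (PQ K)) := by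
  have : Fact p.Prime := ⟨hK.pp⟩
  have hfin : Finite (PG K) := finite_PG H hK
  have hS : IsPGroup p (⊤ : Subgroup (PG K)) := (H.grp hK).2.1
  exact (H.ti hK).1 _ (autInducedBy_le_autGroup F le_top) (syl_of_normal hS hF (norm_of H hK (Or.inr rfl)))

/-- an essential subgroup not containing `V` is `Q` -/
theorem eq_PQ_of (H : Common.{u}) (hK : HypK K p n) {F : FusionSystem (⊤ : Subgroup (PG K))}
    (hF : F.IsSaturated p) {E : Subgroup (PG K)} (hE : F.IsEssential p E) (hV : ¬ PV K ≤ E) : E = PQ K := by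
  have : Fact p.Prime := ⟨hK.pp⟩
  have hfin : Finite (PG K) := finite_PG H hK
  have hS : IsPGroup p (⊤ : Subgroup (PG K)) := (H.grp hK).2.1
  have he : Ess (⊤ : Subgroup (PG K)) E p (F.autGroup E) := H.ess F E hS hF hE
  have hY : PY K ≤ E := H.e1 hK he
  have hZ : Inv (F.autGroup E) (PZ K) := H.e2 hK he hY hV
  obtain ⟨h1, h2⟩ := H.e3 hK he hY hZ
  exact H.ovr F (PQ K) E hS hF hE h1 (norm_of H hK (Or.inr rfl)) (char_of H hK (Or.inr rfl)).1 (tiQ H hK hF) h2

/-- the essential subgroups are among `V`, `Q` -/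
theorem ess_cases (H : Common.{u}) (hK : HypK K p n) (hq : 2 < p ^ n) {F : FusionSystem (⊤ : Subgroup (PG K))}
    (hF : F.IsSaturated p) {E : Subgroup (PG K)} (hE : F.IsEssential p E) : E = PV K ∨ E = PQ K := by
  have : Fact p.Prime := ⟨hK.pp⟩
  have hfin : Finite (PG K) := finite_PG H hK
  by_cases hV : PV K ≤ E
  · exact Or.inl (H.e4 hK hq (H.ess F E (H.grp hK).2.1 hF hE) hV)
  · exact Or.inr (eq_PQ_of H hK hF hE hV)

/-- `Aut_S(V)` is TI -/
theorem tiV (H : Common.{u}) (hK : HypK K p n) (hq : 2 < p ^ n) {F : FusionSystem (⊤ : Subgroup (PG K))}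
    (hF : F.IsSaturated p) : TIAut (⊤ : Subgroup (PG K)) (F.autGroup (PV K)) := by
  have : Fact p.Prime := ⟨hK.pp⟩
  have hfin : Finite (PG K) := finite_PG H hK
  have hS : IsPGroup p (⊤ : Subgroup (PG K)) := (H.grp hK).2.1
  exact H.noOver F (PV K) hS hF le_top (norm_of H hK (Or.inl rfl)) (char_of H hK (Or.inl rfl)).1
    (fun E hE hVE => H.e4 hK hq (H.ess F E hS hF hE) hVE) (inv_top_of_char (char_of H hK (Or.inl rfl)).2.2)

theorem par_of (H : Common.{u}) (hK : HypK K p n) (hq : 2 < p ^ n) {F : FusionSystem (⊤ : Subgroup (PG K))}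
    (hF : F.IsSaturated p) {Q : Subgroup (PG K)} (hQ : Q = PV K ∨ Q = PQ K)
    {D : Subgroup (MulAut (PG K))} (hD : D ≤ TP K) (hDc : (Nat.card D).Coprime p)
    (hAF : AF F = (MulAut.conj : PG K →* MulAut (PG K)).range ⊔ D)
    (hn : ¬ ∀ γ ∈ F.autGroup Q, NormAut (⊤ : Subgroup (PG K)) γ) : ParP p Q (F.autGroup Q) D := by
  have : Fact p.Prime := ⟨hK.pp⟩
  refine H.par hK F D Q hF hQ hD hDc hAF ?_ hn
  rcases hQ with rfl | rfl
  · exact tiV H hK hq hF
  · exact tiQ H hK hF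

/-- an essential subgroup has a non-normal Sylow subgroup -/
theorem nn_of_ess (H : Common.{u}) (hK : HypK K p n) {F : FusionSystem (⊤ : Subgroup (PG K))}
    (hF : F.IsSaturated p) {Q : Subgroup (PG K)} (hE : F.IsEssential p Q) :
    ¬ ∀ γ ∈ F.autGroup Q, NormAut (⊤ : Subgroup (PG K)) γ := by
  have : Fact p.Prime := ⟨hK.pp⟩
  have hfin : Finite (PG K) := finite_PG H hK
  exact not_norm_of_ess (H.ess F Q (H.grp hK).2.1 hF hE)

/-- **the reduction**, `q > 2` -/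
theorem reduce (H : Common.{u}) (hK : HypK K p n) (hq : 2 < p ^ n)
    (main : ∀ F : FusionSystem (⊤ : Subgroup (PG K)), F.IsSaturated p →
      (¬ ∀ γ ∈ F.autGroup (PV K), NormAut (⊤ : Subgroup (PG K)) γ) →
      (¬ ∀ γ ∈ F.autGroup (PQ K), NormAut (⊤ : Subgroup (PG K)) γ) →
      ∀ D : Subgroup (MulAut (PG K)), D ≤ TP K → (Nat.card D).Coprime p →
      AF F = (MulAut.conj : PG K →* MulAut (PG K)).range ⊔ D → F.IsRealizable p)
    {F : FusionSystem (⊤ : Subgroup (PG K))} (hF : F.IsSaturated p) : F.IsRealizable p := by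
  have : Fact p.Prime := ⟨hK.pp⟩
  have hfin : Finite (PG K) := finite_PG H hK
  have hS : IsPGroup p (⊤ : Subgroup (PG K)) := (H.grp hK).2.1
  have con : ∀ Q : Subgroup (PG K), (Q = PV K ∨ Q = PQ K) → (∀ E, F.IsEssential p E → E = Q) →
      F.IsRealizable p := by
    intro Q hQ hu
    obtain ⟨hC, -, hchar⟩ := char_of H hK hQ
    exact H.con F Q hS hF le_top (norm_of H hK hQ) hC hu (inv_top_of_char hchar)
  by_cases hE1 : F.IsEssential p (PV K)
  · by_cases hE2 : F.IsEssential p (PQ K)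
    · obtain ⟨D0, hD0, hD0e⟩ := H.compl F hS hF
      obtain ⟨θ, hθ⟩ := H.pos hK D0 hD0
      obtain ⟨F', hF', hR, hAF', hess, -⟩ := exists_twist F θ hF
      have hE1' : F'.IsEssential p (PV K) := by
        have := (hess (PV K)).1 hE1
        rwa [(char_of H hK (Or.inl rfl)).2.2] at this
      have hE2' : F'.IsEssential p (PQ K) := by
        have := (hess (PQ K)).1 hE2
        rwa [(char_of H hK (Or.inr rfl)).2.2] at this
      apply hR.1
      refine main F' hF' (nn_of_ess H hK hF' hE1') (nn_of_ess H hK hF' hE2') (D0.map (MulAut.conj θ).toMonoidHom) ?_ ?_ ?_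
      · rintro _ ⟨d, hd, rfl⟩
        exact hθ d hd
      · have : Nat.card (D0.map (MulAut.conj θ).toMonoidHom) = Nat.card D0 :=
          (Nat.card_congr (D0.equivMapOfInjective _ (MulAut.conj θ).injective).toEquiv).symm
        rwa [this]
      · rw [hAF', ← hD0e, Subgroup.map_sup, map_conj_range]
    · refine con (PV K) (Or.inl rfl) fun E hE => ?_
      rcases ess_cases H hK hq hF hE with h | h
      · exact h
      · subst h
        exact absurd hE hE2
  · refine con (PQ K) (Or.inr rfl) fun E hE => ?_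
    rcases ess_cases H hK hq hF hE with h | h
    · subst h
      exact absurd hE hE1
    · exact h

/-- a non-normal Sylow subgroup is inherited by a twist -/
theorem nn_map {Q : Subgroup (PG K)} {Γ : Subgroup (MulAut Q)} {t : MulAut Q}
    (ht : ∀ x, x ∈ autInducedBy (⊤ : Subgroup (PG K)) Q ↔ t * x * t⁻¹ ∈ autInducedBy (⊤ : Subgroup (PG K)) Q)
    (h : ¬ ∀ γ ∈ Γ, NormAut (⊤ : Subgroup (PG K)) γ) :
    ¬ ∀ γ ∈ Γ.map (MulAut.conj t).toMonoidHom, NormAut (⊤ : Subgroup (PG K)) γ := by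
  intro hn
  apply h
  intro γ hγ x hx
  have h1 : NormAut (⊤ : Subgroup (PG K)) (t * γ * t⁻¹) := hn _ ⟨γ, hγ, rfl⟩
  have h2 := h1 _ ((ht x).1 hx)
  rw [ht]
  have h3 : t * γ * t⁻¹ * (t * x * t⁻¹) * (t * γ * t⁻¹)⁻¹ = t * (γ * x * γ⁻¹) * t⁻¹ := by group
  rwa [h3] at h2

theorem autInduced_conj {Q : Subgroup (PG K)} {θ : MulAut (PG K)} {t : MulAut Q} (ht : IsRP θ t) (x : MulAut Q) :
    x ∈ autInducedBy (⊤ : Subgroup (PG K)) Q ↔ t * x * t⁻¹ ∈ autInducedBy (⊤ : Subgroup (PG K)) Q := by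
  rw [mem_autInducedBy_iff, mem_autInducedBy_iff]
  have ht' : ∀ e : Q, ((t⁻¹ e : Q) : PG K) = θ⁻¹ e := by
    intro e
    have h1 := ht (t⁻¹ e)
    rw [MulAut.apply_inv_self] at h1
    rw [h1, MulAut.inv_apply_self]
  constructor
  · rintro ⟨g, -, hg⟩
    refine ⟨θ g, Subgroup.mem_top _, fun e => ?_⟩
    rw [MulAut.mul_apply, MulAut.mul_apply, ht, hg, map_mul, map_mul, map_inv, ht', MulAut.apply_inv_self]
  · rintro ⟨g, -, hg⟩
    refine ⟨θ⁻¹ g, Subgroup.mem_top _, fun e => ?_⟩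
    have h1 := hg (t e)
    rw [MulAut.mul_apply, MulAut.mul_apply, MulAut.inv_apply_self, ht, ht] at h1
    have h2 := congrArg (θ⁻¹ : MulAut (PG K)) h1
    rw [MulAut.inv_apply_self, map_mul, map_mul, map_inv, MulAut.inv_apply_self] at h2
    exact h2

/-- `D` commutes with `θ` -/
theorem map_conj_comm {D : Subgroup (MulAut (PG K))} {θ : MulAut (PG K)} (h : ∀ d ∈ D, θ * d = d * θ) :
    D.map (MulAut.conj θ).toMonoidHom = D := by
  have key : ∀ d ∈ D, MulAut.conj θ d = d := by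
    intro d hd
    rw [MulAut.conj_apply, h d hd, mul_inv_cancel_right]
  ext x
  constructor
  · rintro ⟨d, hd, rfl⟩
    show MulAut.conj θ d ∈ D
    rw [key d hd]
    exact hd
  · intro hx
    exact ⟨x, hx, key x hx⟩

/-- **the normalized form on `V`** : after a twist commuting with `D`, `Aut_F(V) = Λ_V D` -/
theorem normV (H : Common.{u}) (hK : HypK K p n) (hq : 2 < p ^ n) {F : FusionSystem (⊤ : Subgroup (PG K))}
    (hF : F.IsSaturated p) (hn1 : ¬ ∀ γ ∈ F.autGroup (PV K), NormAut (⊤ : Subgroup (PG K)) γ)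
    (hn2 : ¬ ∀ γ ∈ F.autGroup (PQ K), NormAut (⊤ : Subgroup (PG K)) γ)
    {D : Subgroup (MulAut (PG K))} (hD : D ≤ TP K) (hDc : (Nat.card D).Coprime p)
    (hAF : AF F = (MulAut.conj : PG K →* MulAut (PG K)).range ⊔ D) :
    HasTorP D (fun t => t ^ 2) (fun t => (t * star t)⁻¹) ∧
    ∃ F' : FusionSystem (⊤ : Subgroup (PG K)), F'.IsSaturated p ∧ (F'.IsRealizable p ↔ F.IsRealizable p) ∧
      AF F' = (MulAut.conj : PG K →* MulAut (PG K)).range ⊔ D ∧ EqLD (F'.autGroup (PV K)) (LamV K) D ∧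
      (¬ ∀ γ ∈ F'.autGroup (PV K), NormAut (⊤ : Subgroup (PG K)) γ) ∧
      (¬ ∀ γ ∈ F'.autGroup (PQ K), NormAut (⊤ : Subgroup (PG K)) γ) ∧
      ∃ t : MulAut (PQ K), F'.autGroup (PQ K) = (F.autGroup (PQ K)).map (MulAut.conj t).toMonoidHom := by
  have : Fact p.Prime := ⟨hK.pp⟩
  have hfin : Finite (PG K) := finite_PG H hK
  obtain ⟨hT, ψ, θ, t, hth, hθ, ht, hL⟩ := H.v hK (F.autGroup (PV K)) D (par_of H hK hq hF (Or.inl rfl) hD hDc hAF hn1)
  refine ⟨hT, ?_⟩
  obtain ⟨F', hF', hR, hAF', -, hQ⟩ := exists_twist F θ hF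
  have hcV := (char_of H hK (Or.inl rfl)).2.2 θ
  have hcQ := (char_of H hK (Or.inr rfl)).2.2 θ
  obtain ⟨t2, ht2⟩ : ∃ t2 : MulAut (PQ K), IsRP θ t2 := by
    let e : PQ K ≃* (PQ K).map θ.toMonoidHom := (PQ K).equivMapOfInjective θ.toMonoidHom θ.injective
    refine ⟨e.trans (MulEquiv.subgroupCongr hcQ), fun x => rfl⟩
  refine ⟨F', hF', hR, ?_, ?_, ?_, ?_, t2, hQ (PQ K) t2 hcQ ht2⟩
  · rw [hAF', hAF, Subgroup.map_sup, map_conj_range, map_conj_comm hθ]
  · rw [hQ (PV K) t hcV ht]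
    exact hL
  · rw [hQ (PV K) t hcV ht]
    exact nn_map (fun x => autInduced_conj ht x) hn1
  · rw [hQ (PQ K) t2 hcQ ht2]
    exact nn_map (fun x => autInduced_conj ht2 x) hn2

theorem eq_of_eqLD {Q : Subgroup (PG K)} {Γ Γ' Lam : Subgroup (MulAut Q)} {D : Subgroup (MulAut (PG K))}
    (h : EqLD Γ Lam D) (h' : EqLD Γ' Lam D) : Γ = Γ' := Subgroup.ext fun γ => (h γ).trans (h' γ).symm

/-- two systems with the same automizers of `S`, `V`, `Q` are equal, `q > 2` -/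
theorem eq_of_same (H : Common.{u}) (hK : HypK K p n) (hq : 2 < p ^ n) {F F' : FusionSystem (⊤ : Subgroup (PG K))}
    (hF : F.IsSaturated p) (hF' : F'.IsSaturated p) (h0 : AF F = AF F')
    (h1 : F.autGroup (PV K) = F'.autGroup (PV K)) (h2 : F.autGroup (PQ K) = F'.autGroup (PQ K)) : F = F' := by
  have : Fact p.Prime := ⟨hK.pp⟩
  have hfin : Finite (PG K) := finite_PG H hK
  exact fusionSystem_ext (H.same F F' (PV K) (PQ K) (H.grp hK).2.1 hF hF' le_top le_top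
    (fun E hE => ess_cases H hK hq hF hE) (fun E hE => ess_cases H hK hq hF' hE)
    (autGroup_top_eq_of_AF h0) h1 h2)

/-- **`q > 3`** -/
theorem real_of_gt (H : Common.{u}) (hQ : StQ.{u}) (hK : HypK K p n) (hq : 3 < p ^ n)
    {F : FusionSystem (⊤ : Subgroup (PG K))} (hF : F.IsSaturated p) : F.IsRealizable p := by
  have : Fact p.Prime := ⟨hK.pp⟩
  have hq2 : 2 < p ^ n := by omega
  refine reduce H hK hq2 ?_ hF
  intro F hF hn1 hn2 D hD hDc hAF
  obtain ⟨hT, F1, hF1, hR1, hAF1, hV1, -, hm1, -⟩ := normV H hK hq2 hF hn1 hn2 hD hDc hAF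
  obtain ⟨hTK, hQ1⟩ := hQ hK hq _ D (par_of H hK hq2 hF1 (Or.inr rfl) hD hDc hAF1 hm1) hT
  obtain ⟨F2, hF2, hreal, hAF2, hk1, hk2, -, -⟩ := H.real hK D hD hDc hT hTK
  obtain ⟨-, F3, hF3, hR3, hAF3, hV3, -, hm3, -⟩ := normV H hK hq2 hF2 hk1 hk2 hD hDc hAF2
  obtain ⟨-, hQ3⟩ := hQ hK hq _ D (par_of H hK hq2 hF3 (Or.inr rfl) hD hDc hAF3 hm3) hT
  have h13 : F1 = F3 := eq_of_same H hK hq2 hF1 hF3 (hAF1.trans hAF3.symm) (eq_of_eqLD hV1 hV3) (eq_of_eqLD hQ1 hQ3)
  rw [← hR1, h13, hR3]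
  exact hreal

end

/-- **from `PG K` to `PSU₄(q)`** -/
theorem final_of (hTr : StTrans.{u, v}) (hSyl : StSyl.{v})
    (hreal : ∀ {K : Type v} [Field K] [StarRing K] {p n : ℕ}, HypK K p n → ∀ F : FusionSystem (⊤ : Subgroup (PG K)),
      F.IsSaturated p → F.IsRealizable p)
    {Ω : Type u} [Group Ω] {S : Subgroup Ω} [Finite S] (p : ℕ) [Fact p.Prime] (F : Cfsg.FusionSystem S)
    (hF : F.IsSaturated p) {K : Type v} [Field K] [Fintype K] [CharP K p] (n : ℕ) (hn : 1 ≤ n)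
    (hK : Fintype.card K = (p ^ n) ^ 2) (T : Sylow p (Cfsg.PSU 4 K (p ^ n)))
    (e : ↥S ≃* ↥(T : Subgroup (Cfsg.PSU 4 K (p ^ n)))) : F.IsRealizable p := by
  have hK' : Nat.card K = (p ^ n) ^ 2 := by rw [Nat.card_eq_fintype_card]; exact hK
  let _ : StarRing K := Cfsg.Agent.H756.PU.starOf K p n hK'
  have hyp : HypK K p n := ⟨Fact.out, hn, inferInstance, hK', inferInstance, fun x => rfl⟩
  obtain ⟨e'⟩ := hSyl hyp T
  obtain ⟨F', hF', hR⟩ := hTr F (e.trans e') hF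
  exact hR (hreal hyp F' hF')

end Cfsg.Agent.H771.P4
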